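import Cfsg.Agent.Lib.Geometric.Centres
import Cfsg.Agent.Lib.Geometric.Monomial
import Cfsg.Agent.Lib.Geometric.LinearMonomialMax

/-!
Root groups of a pairing of four coordinates and of a moved pairing generate the special linear
group.
-/

namespace CfsgLib.Geometric.SLFour

open Matrix

variable {F : Type*} [Field F]

local notation "e[" j "]" => (Pi.single j (1 : _) : Fin 4 → _)

/-- The whole root group at `(i, j)` lies in `M`. -/
def RootIn (M : Subgroup (GL (Fin 4) F)) (i j : Fin 4) : Prop :=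
  ∀ (s : F) (h : (s • coord j) e[i] = (0 : F)), tv e[i] (s • coord j) h ∈ M

lemma RootIn.trans {M : Subgroup (GL (Fin 4) F)} {i j k : Fin 4} (hij : RootIn M i j)
    (hjk : RootIn M j k) (h1 : i ≠ j) (h2 : j ≠ k) (h3 : i ≠ k) : RootIn M i k := by
  intro s h
  have ha : ((1 : F) • coord j) e[i] = (0 : F) := by simp [h1.symm]
  have hb : (s • coord k) e[j] = (0 : F) := by simp [h2.symm]
  have hm := mul_mem (mul_mem (mul_mem (hij 1 ha) (hjk s hb)) (inv_mem (hij 1 ha)))
    (inv_mem (hjk s hb))
  convert hm using 1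
  rw [tv_inv, tv_inv]
  refine gl_ext fun x => funext fun m => ?_
  simp [ap_mul, h2, h3, h1.symm, h2.symm, h3.symm]
  ring

/-- All root groups give the special linear group. -/
theorem specialLinear_le_of_roots {M : Subgroup (GL (Fin 4) F)}
    (hR : ∀ i j, i ≠ j → RootIn M i j) : Cfsg.Geo.specialLinear (Fin 4) F ≤ M := by
  classical
  refine specialLinear_le_of_fullCentre (S := Set.range fun k => e[k]) ?_ ?_
  · rw [← (Pi.basisFun F (Fin 4)).span_eq]
    congr 1
    exact congrArg Set.range (funext fun k => (Pi.basisFun_apply F (Fin 4) k).symm)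
  rintro _ ⟨k, rfl⟩ φ hφ
  have h0 : ∀ m, (φ e[m] • coord m) e[k] = (0 : F) := fun m => by
    by_cases hmk : m = k
    · subst hmk; simp [hφ]
    · simp [Pi.single_apply, hmk]
  have h2 := tv_mem_sum (M := M) Finset.univ e[k] (fun m => φ e[m] • coord m) h0 fun m _ => ?_
  · convert h2 using 2
    exact eq_sum_coord φ
  · by_cases hmk : m = k
    · subst hmk
      have : tv e[m] (φ e[m] • coord m) (h0 m) = 1 := gl_ext fun y => by simp [hφ]
      rw [this]; exact one_mem M
    · exact hR k m (Ne.symm hmk) _ _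

lemma RootIn.map {M : Subgroup (GL (Fin 4) F)} {i j : Fin 4} (hij : RootIn M i j)
    {π : Equiv.Perm (Fin 4)} {c : Fin 4 → Fˣ} (hg : mon π c ∈ M) : RootIn M (π i) (π j) := by
  intro s h
  by_cases hs : s = 0
  · subst hs
    have : tv e[π i] ((0 : F) • coord (π j)) h = 1 := gl_ext fun y => by simp
    rw [this]; exact one_mem M
  have hne : j ≠ i := fun e => hs (by simpa [e] using h)
  set a : F := s * (c (π j) : F) * (((c (π i))⁻¹ : Fˣ) : F) with ha
  have h0 : (a • coord j) e[i] = (0 : F) := by simp [hne]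
  have hm := mul_mem (mul_mem hg (hij a h0)) (inv_mem hg)
  convert hm using 1
  rw [mon_inv]
  refine gl_ext fun x => funext fun m => ?_
  simp only [ap_mul, ap_tv, ap_mon, Pi.add_apply, Pi.smul_apply, LinearMap.smul_apply,
    LinearMap.proj_apply, smul_eq_mul]
  by_cases hm : m = π i
  · subst hm
    simp [ha, Equiv.Perm.inv_def]
    field_simp
  · have : π.symm m ≠ i := fun e => hm (by rw [← e, Equiv.apply_symm_apply])
    simp [hm, this, Equiv.Perm.inv_def]

/-- The two pairs `{0,1}` and `{2,3}`. -/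
def pairAdj (i j : Fin 4) : Bool := decide ((i.val / 2 = j.val / 2) ∧ i ≠ j)

lemma path_of_move : ∀ π : Equiv.Perm (Fin 4), (∃ i j, pairAdj i j ∧ ¬ pairAdj (π i) (π j)) →
    ∀ i j, i ≠ j → (pairAdj i j ∨ pairAdj (π.symm i) (π.symm j)) ∨
      ∃ k, (pairAdj i k ∨ pairAdj (π.symm i) (π.symm k)) ∧
        (pairAdj k j ∨ pairAdj (π.symm k) (π.symm j)) := by decide +kernel

/-- Root groups on two disjoint pairs and a monomial element moving this pairing give the special
linear group. -/
theorem specialLinear_le_of_pairing {M : Subgroup (GL (Fin 4) F)}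
    (hR : ∀ i j, pairAdj i j → RootIn M i j) {π : Equiv.Perm (Fin 4)} {c : Fin 4 → Fˣ}
    (hg : mon π c ∈ M) (hπ : ∃ i j, pairAdj i j ∧ ¬ pairAdj (π i) (π j)) :
    Cfsg.Geo.specialLinear (Fin 4) F ≤ M := by
  have hadj : ∀ i j, (pairAdj i j ∨ pairAdj (π.symm i) (π.symm j)) → RootIn M i j ∧ i ≠ j := by
    rintro i j (h | h)
    · exact ⟨hR i j h, fun e => by simp [pairAdj, e] at h⟩
    · refine ⟨?_, fun e => by simp [pairAdj, e] at h⟩
      simpa using (hR _ _ h).map hg
  refine specialLinear_le_of_roots fun i j hij => ?_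
  rcases path_of_move π hπ i j hij with h | ⟨k, h1, h2⟩
  · exact (hadj i j h).1
  · obtain ⟨hik, hik'⟩ := hadj i k h1
    obtain ⟨hkj, hkj'⟩ := hadj k j h2
    exact hik.trans hkj hik' hkj' hij

end CfsgLib.Geometric.SLFour
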